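import Mathlib
import Cfsg.Agent.Classical.IsoStab

/-!
The alternating sum over isotropic frames inside a subspace with non-zero radical vanishes.
-/

set_option autoImplicit false

namespace Cfsg.Agent.SpUnipotent

open Finset
open Cfsg.Agent.Classical

variable {F : Type*} [Field F]

theorem exists_linearEquiv_single {n : ℕ} {c : Fin (n + 1) → F} (hc : c ≠ 0) :
    ∃ f : (Fin (n + 1) → F) ≃ₗ[F] (Fin (n + 1) → F), f (Pi.single 0 1) = c := by
  classical
  obtain ⟨i, hi⟩ : ∃ i, c i ≠ 0 := not_forall.1 fun h => hc (funext h)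
  let g : (Fin (n + 1) → F) →ₗ[F] (Fin (n + 1) → F) :=
    LinearMap.id + (LinearMap.proj i).smulRight (c - Pi.single i 1)
  have hg : Function.Injective g := by
    refine LinearMap.ker_eq_bot.1 (LinearMap.ker_eq_bot'.2 fun x hx => ?_)
    have hxi : x i = 0 := by
      have h := congrFun hx i
      simp [g, mul_sub] at h
      exact h.resolve_right hi
    simpa [g, hxi] using hx
  refine ⟨(LinearEquiv.funCongrLeft F F (Equiv.swap 0 i)).trans (LinearEquiv.ofInjectiveEndo g hg), ?_⟩
  have e : LinearEquiv.funCongrLeft F F (Equiv.swap 0 i) (Pi.single (0 : Fin (n + 1)) (1 : F)) = Pi.single i 1 := by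
    funext j
    simp [LinearEquiv.funCongrLeft_apply, LinearMap.funLeft_apply, Pi.single_apply, Equiv.swap_apply_eq_iff]
  rw [LinearEquiv.trans_apply, e, LinearEquiv.coe_ofInjectiveEndo]
  simp [g]

section fibre

variable {V : Type*} [AddCommGroup V] [Module F V] {R : V → V → Prop} (X : Submodule F V)

/-- Frames inside a subspace. -/
abbrev Fr (R : V → V → Prop) (k : ℕ) : Set (Fin k → V) := {s | s ∈ IsoStab.Frames F R k ∧ ∀ i, s i ∈ X}

theorem rel_combination (hO : Lines.Orth (F := F) R) (hz : ∀ x, R x 0) {ι : Type*} [Fintype ι] (s : ι → V)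
    (hs : ∀ i j, R (s i) (s j)) (a b : ι → F) :
    R (Fintype.linearCombination F s a) (Fintype.linearCombination F s b) := by
  have aux : ∀ x, (∀ j, R x (s j)) → ∀ a : ι → F, R x (Fintype.linearCombination F s a) := fun x hx a => by
    rw [Fintype.linearCombination_apply]
    exact Finset.sum_induction _ (R x) (fun _ _ h1 h2 => hO.add h1 h2) (hz x) (fun i _ => hO.smul (a i) (hx i))
  exact aux _ (fun j => hO.symm (aux _ (hs j) a)) b

/-- Change a frame by an invertible matrix. -/
def changeFrame {n : ℕ} (f : (Fin n → F) ≃ₗ[F] (Fin n → F)) (s : Fin n → V) : Fin n → V :=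
  fun j => Fintype.linearCombination F s (f (Pi.single j 1))

theorem linearCombination_changeFrame {n : ℕ} (f : (Fin n → F) ≃ₗ[F] (Fin n → F)) (s : Fin n → V) (a : Fin n → F) :
    Fintype.linearCombination F (changeFrame f s) a = Fintype.linearCombination F s (f a) := by
  suffices h : Fintype.linearCombination F (changeFrame f s) = (Fintype.linearCombination F s).comp f.toLinearMap from
    LinearMap.congr_fun h a
  refine LinearMap.pi_ext fun j c => ?_
  rw [Fintype.linearCombination_apply_single, LinearMap.comp_apply, LinearEquiv.coe_coe,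
    show Pi.single j c = c • (Pi.single j (1 : F) : Fin n → F) by rw [← Pi.single_smul, smul_eq_mul, mul_one],
    map_smul, map_smul, changeFrame]

theorem changeFrame_mem (hO : Lines.Orth (F := F) R) (hz : ∀ x, R x 0) {n : ℕ}
    (f : (Fin n → F) ≃ₗ[F] (Fin n → F)) {s : Fin n → V} (hs : s ∈ Fr X R n) : changeFrame f s ∈ Fr X R n := by
  refine ⟨⟨?_, fun i j => rel_combination hO hz s hs.1.2 _ _⟩, fun i => ?_⟩
  · rw [linearIndependent_iff_injective_fintypeLinearCombination]
    intro a b h
    simp only [linearCombination_changeFrame] at h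
    exact f.injective (linearIndependent_iff_injective_fintypeLinearCombination.1 hs.1.1 h)
  · simp only [changeFrame, Fintype.linearCombination_apply]
    exact Submodule.sum_mem _ fun j _ => X.smul_mem _ (hs.2 j)

/-- Frames with prescribed coordinates of a vector. -/
def fibreEquiv (hO : Lines.Orth (F := F) R) (hz : ∀ x, R x 0) {n : ℕ} (r : V) (c : Fin (n + 1) → F)
    (f : (Fin (n + 1) → F) ≃ₗ[F] (Fin (n + 1) → F)) (hf : f (Pi.single 0 1) = c) :
    {s : Fr X R (n + 1) // Fintype.linearCombination F s.1 c = r} ≃ {s : Fr X R (n + 1) // s.1 0 = r} where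
  toFun s := ⟨⟨changeFrame f s.1.1, changeFrame_mem X hO hz f s.1.2⟩, by
    show Fintype.linearCombination F s.1.1 (f (Pi.single 0 1)) = r
    rw [hf, s.2]⟩
  invFun s := ⟨⟨changeFrame f.symm s.1.1, changeFrame_mem X hO hz f.symm s.1.2⟩, by
    rw [linearCombination_changeFrame, ← hf, f.symm_apply_apply, Fintype.linearCombination_apply_single, one_smul, s.2]⟩
  left_inv s := by
    refine Subtype.ext (Subtype.ext (funext fun j => ?_))
    show Fintype.linearCombination F (changeFrame f s.1.1) (f.symm (Pi.single j 1)) = s.1.1 j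
    rw [linearCombination_changeFrame, f.apply_symm_apply, Fintype.linearCombination_apply_single, one_smul]
  right_inv s := by
    refine Subtype.ext (Subtype.ext (funext fun j => ?_))
    show Fintype.linearCombination F (changeFrame f.symm s.1.1) (f (Pi.single j 1)) = s.1.1 j
    rw [linearCombination_changeFrame, f.symm_apply_apply, Fintype.linearCombination_apply_single, one_smul]

variable [Finite F] [Finite V]

theorem card_with_radical (hO : Lines.Orth (F := F) R) (hz : ∀ x, R x 0) {r : V} (hr0 : r ≠ 0) (hrX : r ∈ X)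
    (hrR : ∀ x ∈ X, R r x) (n : ℕ) :
    Nat.card {s : Fr X R (n + 1) // r ∈ Submodule.span F (Set.range s.1)} =
      (Nat.card F ^ (n + 1) - 1) * Nat.card {s : Fr X R n // r ∉ Submodule.span F (Set.range s.1)} := by
  classical
  let D := {c : Fin (n + 1) → F // c ≠ 0}
  have e1 : (Σ c : D, {s : Fr X R (n + 1) // Fintype.linearCombination F s.1 c.1 = r}) ≃
      {s : Fr X R (n + 1) // r ∈ Submodule.span F (Set.range s.1)} := by
    refine Equiv.ofBijective (fun p => ⟨p.2.1, by
      rw [← Fintype.range_linearCombination]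
      exact ⟨p.1.1, p.2.2⟩⟩) ⟨?_, ?_⟩
    · rintro ⟨c, s, hc⟩ ⟨c', s', hc'⟩ h
      obtain rfl : s = s' := congrArg Subtype.val h
      obtain rfl : c = c' := Subtype.ext
        (linearIndependent_iff_injective_fintypeLinearCombination.1 s.2.1.1 (hc.trans hc'.symm))
      rfl
    · rintro ⟨s, hs⟩
      rw [← Fintype.range_linearCombination] at hs
      obtain ⟨c, hc⟩ := hs
      exact ⟨⟨⟨c, fun h0 => hr0 (by rw [← hc, h0, map_zero])⟩, ⟨s, hc⟩⟩, rfl⟩
  have e2 : ∀ c : D, Nat.card {s : Fr X R (n + 1) // Fintype.linearCombination F s.1 c.1 = r} =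
      Nat.card {s : Fr X R n // r ∉ Submodule.span F (Set.range s.1)} := by
    intro c
    obtain ⟨f, hf⟩ := exists_linearEquiv_single c.2
    rw [Nat.card_congr (fibreEquiv X hO hz r c.1 f hf)]
    refine Nat.card_congr
      { toFun := fun s => ⟨⟨Fin.tail s.1.1, ⟨(linearIndependent_finSucc.1 s.1.2.1.1).1, fun i j => s.1.2.1.2 _ _⟩,
          fun i => s.1.2.2 _⟩, by have := (linearIndependent_finSucc.1 s.1.2.1.1).2; rwa [s.2] at this⟩
        invFun := fun s => ⟨⟨Fin.cons r s.1.1, ⟨linearIndependent_finCons.2 ⟨s.1.2.1.1, s.2⟩, fun i j => ?_⟩,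
          fun i => Fin.cases hrX s.1.2.2 i⟩, (Fin.cons_zero (α := fun _ => V) r s.1.1 :)⟩
        left_inv := fun s => Subtype.ext (Subtype.ext (by
          show Fin.cons r (Fin.tail s.1.1) = s.1.1
          exact (congrArg (Fin.cons (α := fun _ => V) · (Fin.tail s.1.1)) s.2).symm.trans (Fin.cons_self_tail _)))
        right_inv := fun s => Subtype.ext (Subtype.ext (Fin.tail_cons (α := fun _ => V) r s.1.1 :)) }
    refine Fin.cases ?_ (fun i => ?_) i <;> refine Fin.cases ?_ (fun j => ?_) j
    · simpa using hrR r hrX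
    · simpa using hrR _ (s.1.2.2 j)
    · simpa using hO.symm (hrR _ (s.1.2.2 i))
    · simpa using s.1.2.1.2 i j
  haveI : Fintype D := Fintype.ofFinite _
  rw [← Nat.card_congr e1, Nat.card_sigma, Finset.sum_congr rfl fun c _ => e2 c, Finset.sum_const, smul_eq_mul,
    Finset.card_univ, ← Nat.card_eq_fintype_card]
  congr 1
  haveI : Fintype F := Fintype.ofFinite _
  rw [show D = {c : Fin (n + 1) → F // ¬ c = 0} from rfl, Nat.card_eq_fintype_card, Fintype.card_subtype_compl,
    Fintype.card_subtype_eq, Fintype.card_fun, Fintype.card_fin, Nat.card_eq_fintype_card]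

/-- The alternating sum vanishes when the radical is non-zero. -/
theorem alt_sum_eq_zero (hO : Lines.Orth (F := F) R) (hz : ∀ x, R x 0) {r : V} (hr0 : r ≠ 0) (hrX : r ∈ X)
    (hrR : ∀ x ∈ X, R r x) (m : ℕ) (hm : Nat.card (IsoStab.Frames F R (m + 1)) = 0) :
    ∑ k ∈ range (m + 1), (-1 : ℚ) ^ k * (Nat.card (Fr X R k) : ℚ) /
      ∏ i ∈ range k, ((Nat.card F : ℚ) ^ (i + 1) - 1) = 0 := by
  classical
  set q := Nat.card F with hq
  have hq2 : 2 ≤ q := Finite.one_lt_card
  set a : ℕ → ℕ := fun k => Nat.card {s : Fr X R k // r ∉ Submodule.span F (Set.range s.1)} with ha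
  set E : ℕ → ℚ := fun k => ∏ i ∈ range k, ((q : ℚ) ^ (i + 1) - 1) with hE
  have hne : ∀ i, ((q : ℚ) ^ (i + 1) - 1) ≠ 0 := fun i =>
    sub_ne_zero.2 (one_lt_pow₀ (by exact_mod_cast hq2 : (1 : ℚ) < q) (Nat.succ_ne_zero i)).ne'
  have hsplit : ∀ k, Nat.card (Fr X R k) =
      Nat.card {s : Fr X R k // r ∈ Submodule.span F (Set.range s.1)} + a k := fun k => by
    rw [← Nat.card_congr (Equiv.sumCompl fun s : Fr X R k => r ∈ Submodule.span F (Set.range s.1)), Nat.card_sum]
  have h0 : Nat.card (Fr X R 0) = a 0 := by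
    rw [hsplit]
    have : IsEmpty {s : Fr X R 0 // r ∈ Submodule.span F (Set.range s.1)} := ⟨fun s => hr0 (by
      have h := s.2
      rw [Set.range_eq_empty, Submodule.span_empty] at h
      exact (Submodule.mem_bot F).1 h)⟩
    rw [Nat.card_of_isEmpty, zero_add]
  have h00 : Nat.card (Fr X R 0) = 1 := by
    haveI : Subsingleton (Fr X R 0) := ⟨fun s t => Subtype.ext (Subsingleton.elim _ _)⟩
    haveI : Nonempty (Fr X R 0) :=
      ⟨⟨Fin.elim0, ⟨linearIndependent_empty_type, fun i => i.elim0⟩, fun i => i.elim0⟩⟩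
    exact Nat.card_unique
  have key : ∀ k, ∑ j ∈ range (k + 1), (-1 : ℚ) ^ j * (Nat.card (Fr X R j) : ℚ) / E j =
      (-1) ^ k * (a k : ℚ) / E k := by
    intro k
    induction k with
    | zero => simp [E, ← h0, h00]
    | succ k ih =>
      rw [sum_range_succ, ih, hsplit (k + 1), card_with_radical X hO hz hr0 hrX hrR k]
      have hE1 : E (k + 1) = E k * ((q : ℚ) ^ (k + 1) - 1) := prod_range_succ _ _
      have hEk : E k ≠ 0 := Finset.prod_ne_zero_iff.2 fun i _ => hne i
      rw [hE1, Nat.cast_add, Nat.cast_mul, Nat.cast_sub (Nat.one_le_pow _ _ (by omega)), Nat.cast_pow, Nat.cast_one,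
        show Nat.card {s : Fr X R k // r ∉ Submodule.span F (Set.range s.1)} = a k from rfl, ← hq]
      field_simp [hne k, hEk]
      ring
  rw [key m]
  have h1 := card_with_radical X hO hz hr0 hrX hrR m
  have h2 : Nat.card {s : Fr X R (m + 1) // r ∈ Submodule.span F (Set.range s.1)} = 0 := by
    refine Nat.le_zero.1 (hm ▸ Nat.card_le_card_of_injective (fun s => ⟨s.1.1, s.1.2.1⟩) ?_)
    intro s t h
    exact Subtype.ext (Subtype.ext (congrArg Subtype.val h :))
  rw [h2] at h1
  have h3 : a m = 0 := by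
    rcases Nat.mul_eq_zero.1 h1.symm with h | h
    · have h4 : 1 < Nat.card F ^ (m + 1) := Nat.one_lt_pow (Nat.succ_ne_zero m) Finite.one_lt_card
      omega
    · exact h
  rw [h3]
  simp

end fibre

end Cfsg.Agent.SpUnipotent
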