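import Mathlib

/-!
Two Gaussian binomial identities behind the count of unipotent elements of the symplectic groups.
-/

set_option autoImplicit false

namespace Cfsg.Agent.SpUnipotent

open Finset

variable {R : Type*} [CommRing R]

/-- Gaussian binomial coefficient, by the Pascal rule. -/
def gb (q : R) : ℕ → ℕ → R
  | _, 0 => 1
  | 0, _ + 1 => 0
  | m + 1, k + 1 => gb q m k + q ^ (k + 1) * gb q m (k + 1)

theorem gb_zero_right (q : R) (m : ℕ) : gb q m 0 = 1 := by cases m <;> rfl

theorem gb_succ (q : R) (m k : ℕ) : gb q (m + 1) (k + 1) = gb q m k + q ^ (k + 1) * gb q m (k + 1) := rfl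

theorem gb_of_lt (q : R) : ∀ m k : ℕ, m < k → gb q m k = 0 := by
  intro m
  induction m with
  | zero => intro k hk; cases k with
    | zero => omega
    | succ k => rfl
  | succ m ih => intro k hk; cases k with
    | zero => omega
    | succ k => rw [gb_succ, ih k (by omega), ih (k + 1) (by omega), mul_zero, add_zero]

theorem gb_mul (q : R) : ∀ m k : ℕ, k ≤ m →
    gb q m k * ∏ i ∈ range k, (q ^ (i + 1) - 1) = ∏ i ∈ range k, (q ^ (m - i) - 1) := by
  intro m
  induction m with
  | zero =>
    intro k hk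
    obtain rfl : k = 0 := by omega
    simp [gb_zero_right]
  | succ m ih =>
    intro k hk
    cases k with
    | zero => simp [gb_zero_right]
    | succ k =>
      have h2 : gb q m (k + 1) * ∏ i ∈ range (k + 1), (q ^ (i + 1) - 1) =
          ∏ i ∈ range (k + 1), (q ^ (m - i) - 1) := by
        rcases Nat.lt_or_ge m (k + 1) with h | h
        · rw [gb_of_lt q m _ h, zero_mul]
          refine (prod_eq_zero (i := m) (mem_range.2 h) ?_).symm
          simp
        · exact ih (k + 1) h
      have h1 := ih k (by omega)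
      rw [prod_range_succ' (fun i => q ^ (m + 1 - i) - 1), gb_succ, add_mul, mul_assoc (q ^ (k + 1)), h2,
        prod_range_succ (fun i => q ^ (i + 1) - 1), ← mul_assoc (gb q m k), h1,
        prod_range_succ (fun i => q ^ (m - i) - 1)]
      simp only [Nat.add_sub_add_right, Nat.sub_zero]
      have e : q ^ (k + 1) * q ^ (m - k) = q ^ (m + 1) := by rw [← pow_add]; congr 1; omega
      linear_combination (∏ i ∈ range k, (q ^ (m - i) - 1)) * e

theorem sum_gb_succ (q : R) (m : ℕ) (T : ℕ → R) :
    ∑ k ∈ range (m + 2), gb q (m + 1) k * T k =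
      ∑ k ∈ range (m + 1), gb q m k * T (k + 1) + ∑ k ∈ range (m + 1), q ^ k * gb q m k * T k := by
  have h : ∑ k ∈ range (m + 1), q ^ k * gb q m k * T k = ∑ k ∈ range (m + 2), q ^ k * gb q m k * T k := by
    rw [sum_range_succ _ (m + 1), gb_of_lt q m (m + 1) (by omega), mul_zero, zero_mul, add_zero]
  rw [h, sum_range_succ' _ (m + 1), sum_range_succ' (fun k => q ^ k * gb q m k * T k) (m + 1), ← add_assoc,
    ← sum_add_distrib, gb_zero_right, gb_zero_right, pow_zero]
  simp only [one_mul]
  refine congrArg (fun t => t + T 0) (sum_congr rfl fun k _ => ?_)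
  rw [gb_succ]; ring

theorem newton (q x : R) : ∀ m : ℕ,
    ∑ k ∈ range (m + 1), gb q m k * ((-1) ^ k * ∏ i ∈ range k, (q ^ i + x)) = (-x) ^ m := by
  intro m
  induction m with
  | zero => simp [gb_zero_right]
  | succ m ih =>
    rw [sum_gb_succ, ← sum_add_distrib, pow_succ, ← ih, sum_mul]
    refine sum_congr rfl fun k _ => ?_
    rw [prod_range_succ, pow_succ]
    ring

theorem inversion (q : R) : ∀ m a : ℕ, ∑ k ∈ range (m + 1), gb q m k * ((-1) ^ (m - k) *
    q ^ ((m - k) ^ 2 + a * (m - k)) * ∏ i ∈ range k, (1 + q ^ (m + a - i))) = 1 := by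
  intro m
  induction m with
  | zero => intro a; simp [gb_zero_right]
  | succ m ih =>
    intro a
    rw [sum_gb_succ]
    have h1 : ∀ k ∈ range (m + 1),
        gb q m k * ((-1) ^ (m + 1 - (k + 1)) * q ^ ((m + 1 - (k + 1)) ^ 2 + a * (m + 1 - (k + 1))) *
          ∏ i ∈ range (k + 1), (1 + q ^ (m + 1 + a - i))) =
        (1 + q ^ (m + 1 + a)) * (gb q m k * ((-1) ^ (m - k) * q ^ ((m - k) ^ 2 + a * (m - k)) *
          ∏ i ∈ range k, (1 + q ^ (m + a - i)))) := by
      intro k _
      rw [prod_range_succ' (fun i => 1 + q ^ (m + 1 + a - i)), Nat.add_sub_add_right, Nat.sub_zero]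
      have e : ∀ i, m + 1 + a - (i + 1) = m + a - i := fun i => by omega
      simp only [e]
      ring
    have h2 : ∀ k ∈ range (m + 1),
        q ^ k * gb q m k * ((-1) ^ (m + 1 - k) * q ^ ((m + 1 - k) ^ 2 + a * (m + 1 - k)) *
          ∏ i ∈ range k, (1 + q ^ (m + 1 + a - i))) =
        -(q ^ (m + 1 + a)) * (gb q m k * ((-1) ^ (m - k) * q ^ ((m - k) ^ 2 + (a + 1) * (m - k)) *
          ∏ i ∈ range k, (1 + q ^ (m + (a + 1) - i)))) := by
      intro k hk
      obtain ⟨d, rfl⟩ : ∃ d, m = k + d := ⟨m - k, by have := mem_range.1 hk; omega⟩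
      rw [show k + d + 1 - k = d + 1 by omega, show k + d - k = d by omega,
        show k + d + 1 + a = k + d + (a + 1) by omega, pow_succ (-1 : R)]
      ring
    rw [sum_congr rfl h1, sum_congr rfl h2, ← mul_sum, ← mul_sum, ih a, ih (a + 1)]
    ring

end Cfsg.Agent.SpUnipotent
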