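import Mathlib
import Cfsg.Agent.Classical.IsoStab

/-!
The pointwise stabiliser of a standard totally isotropic subspace: projection onto the smaller symplectic group.
-/

set_option autoImplicit false

namespace Cfsg.Agent.SpUnipotent

open Matrix Finset
open Cfsg.Agent.Classical

variable {F : Type*} [Field F] {k d : ℕ}

/-- Outer isotropic coordinates. -/
def outer (i : Fin k) : Fin (k + d) ⊕ Fin (k + d) := Sum.inl (Fin.castAdd d i)

/-- Middle coordinates. -/
def mid (k : ℕ) {d : ℕ} : Fin d ⊕ Fin d → Fin (k + d) ⊕ Fin (k + d) := Sum.map (Fin.natAdd k) (Fin.natAdd k)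

/-- The standard frame. -/
def frame0 (F : Type*) [Field F] (k d : ℕ) : Fin k → Fin (k + d) ⊕ Fin (k + d) → F :=
  fun i => Pi.single (outer i) 1

/-- Pointwise stabiliser of the standard frame. -/
def stab (F : Type*) [Field F] (k d : ℕ) : Subgroup (Matrix.symplecticGroup (Fin (k + d)) F) where
  carrier := {g | ∀ i, g.1 *ᵥ frame0 F k d i = frame0 F k d i}
  mul_mem' {a b} ha hb := fun i => by rw [Submonoid.coe_mul, ← mulVec_mulVec, hb i, ha i]
  one_mem' := fun i => by rw [OneMemClass.coe_one, one_mulVec]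
  inv_mem' {a} ha := fun i => by
    conv_lhs => rw [← ha i, mulVec_mulVec, ← Submonoid.coe_mul, inv_mul_cancel, OneMemClass.coe_one, one_mulVec]

theorem inr_apply {g : Matrix.symplecticGroup (Fin (k + d)) F} (hg : g ∈ stab F k d) (v : Fin (k + d) ⊕ Fin (k + d) → F)
    (i : Fin k) : (g.1 *ᵥ v) (Sum.inr (Fin.castAdd d i)) = v (Sum.inr (Fin.castAdd d i)) := by
  have h := (mem_symplectic_iff g.1).1 g.2 (frame0 F k d i) v
  rw [hg i] at h
  simpa [sympB_eq_sum, frame0, outer, Pi.single_apply] using h

theorem entry_col {g : Matrix.symplecticGroup (Fin (k + d)) F} (hg : g ∈ stab F k d) (x : Fin (k + d) ⊕ Fin (k + d))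
    (i : Fin k) : g.1 x (Sum.inl (Fin.castAdd d i)) = if x = Sum.inl (Fin.castAdd d i) then 1 else 0 := by
  have h := congrFun (hg i) x
  simpa [frame0, outer, Pi.single_apply, mulVec, dotProduct] using h

theorem entry_row {g : Matrix.symplecticGroup (Fin (k + d)) F} (hg : g ∈ stab F k d) (x : Fin (k + d) ⊕ Fin (k + d))
    (i : Fin k) : g.1 (Sum.inr (Fin.castAdd d i)) x = if Sum.inr (Fin.castAdd d i) = x then 1 else 0 := by
  have h := inr_apply hg (Pi.single x 1) i
  simpa [Pi.single_apply, mulVec, dotProduct] using h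

/-- Extend a middle vector by zeros. -/
def emb (k : ℕ) {d : ℕ} (u : Fin d ⊕ Fin d → F) : Fin (k + d) ⊕ Fin (k + d) → F :=
  Sum.elim (Fin.append 0 (fun i => u (Sum.inl i))) (Fin.append 0 (fun i => u (Sum.inr i)))

theorem natAdd_ne_castAdd (i : Fin d) (j : Fin k) : Fin.natAdd k i ≠ Fin.castAdd d j := by
  intro h
  have := congrArg Fin.val h
  simp at this
  omega

theorem mulVec_emb (g : Matrix (Fin (k + d) ⊕ Fin (k + d)) (Fin (k + d) ⊕ Fin (k + d)) F) (u : Fin d ⊕ Fin d → F)
    (a : Fin d ⊕ Fin d) : (g *ᵥ emb k u) (mid k a) = (g.submatrix (mid k) (mid k) *ᵥ u) a := by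
  simp [mulVec, dotProduct, emb, mid, Fintype.sum_sum_type, Fin.sum_univ_add]

theorem sympB_mid (v w : Fin (k + d) ⊕ Fin (k + d) → F) (hv : ∀ i, v (Sum.inr (Fin.castAdd d i)) = 0)
    (hw : ∀ i, w (Sum.inr (Fin.castAdd d i)) = 0) :
    sympB (k + d) F v w = sympB d F (fun a => v (mid k a)) (fun a => w (mid k a)) := by
  simp [sympB_eq_sum, Fin.sum_univ_add, hv, hw, mid]

theorem emb_mid (u : Fin d ⊕ Fin d → F) (a : Fin d ⊕ Fin d) : emb k u (mid k a) = u a := by
  cases a <;> simp [emb, mid]

theorem emb_inr (u : Fin d ⊕ Fin d → F) (i : Fin k) : emb k u (Sum.inr (Fin.castAdd d i)) = 0 := by simp [emb]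

/-- Projection onto the middle. -/
def proj (F : Type*) [Field F] (k d : ℕ) : stab F k d →* Matrix.symplecticGroup (Fin d) F where
  toFun g := ⟨g.1.1.submatrix (mid k) (mid k), (mem_symplectic_iff _).2 fun u v => by
    have h := (mem_symplectic_iff g.1.1).1 g.1.2 (emb k u) (emb k v)
    rw [sympB_mid (emb k u) (emb k v) (emb_inr u) (emb_inr v),
      sympB_mid _ _ (fun i => by rw [inr_apply g.2, emb_inr]) (fun i => by rw [inr_apply g.2, emb_inr])] at h
    simpa [mulVec_emb, emb_mid] using h⟩
  map_one' := Subtype.ext (Matrix.submatrix_one _ (by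
    intro a b h
    rcases a with a | a <;> rcases b with b | b <;> simp [mid] at h ⊢ <;> exact h))
  map_mul' g h := Subtype.ext (Matrix.ext fun a b => by
    show ((g * h).1.1) (mid k a) (mid k b) =
      (g.1.1.submatrix (mid k) (mid k) * h.1.1.submatrix (mid k) (mid k)) a b
    rcases a with a | a <;> rcases b with b | b <;>
    simp [mul_apply, mid, Fintype.sum_sum_type, Fin.sum_univ_add, entry_col g.2, entry_row h.2,
      natAdd_ne_castAdd, (natAdd_ne_castAdd _ _).symm])

theorem proj_surjective : Function.Surjective (proj F k d) := by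
  intro A
  let L : (Fin (k + d) ⊕ Fin (k + d) → F) →ₗ[F] (Fin (k + d) ⊕ Fin (k + d) → F) :=
    { toFun := fun v => Sum.elim
        (Fin.append (fun i => v (Sum.inl (Fin.castAdd d i))) (fun i => (A.1 *ᵥ fun a => v (mid k a)) (Sum.inl i)))
        (Fin.append (fun i => v (Sum.inr (Fin.castAdd d i))) (fun i => (A.1 *ᵥ fun a => v (mid k a)) (Sum.inr i)))
      map_add' := fun v w => by
        have e : (fun a => (v + w) (mid k a)) = (fun a => v (mid k a)) + (fun a => w (mid k a)) := rfl
        rw [e, mulVec_add]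
        funext x
        rcases x with x | x <;> refine Fin.addCases (fun i => ?_) (fun i => ?_) x <;> simp
      map_smul' := fun c v => by
        have e : (fun a => (c • v) (mid k a)) = c • (fun a => v (mid k a)) := rfl
        rw [e, mulVec_smul]
        funext x
        rcases x with x | x <;> refine Fin.addCases (fun i => ?_) (fun i => ?_) x <;> simp }
  have hM : ∀ v, LinearMap.toMatrix' L *ᵥ v = L v := fun v => LinearMap.toMatrix'_mulVec L v
  refine ⟨⟨⟨LinearMap.toMatrix' L, (mem_symplectic_iff _).2 fun u v => ?_⟩, fun i => ?_⟩, Subtype.ext ?_⟩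
  · rw [hM, hM]
    have h := (mem_symplectic_iff A.1).1 A.2 (fun a => u (mid k a)) (fun a => v (mid k a))
    simp [sympB_eq_sum, mid] at h
    simp [L, sympB_eq_sum, Fin.sum_univ_add, mid]
    linear_combination h
  · show LinearMap.toMatrix' L *ᵥ frame0 F k d i = frame0 F k d i
    rw [hM]
    simp only [L, LinearMap.coe_mk, AddHom.coe_mk]
    have e : (fun a => frame0 F k d i (mid k a)) = 0 := by
      funext a
      rcases a with a | a <;> simp [frame0, outer, mid, natAdd_ne_castAdd]
    rw [e, mulVec_zero]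
    funext x
    rcases x with x | x <;> refine Fin.addCases (fun j => ?_) (fun j => ?_) x <;>
      simp [frame0, outer, natAdd_ne_castAdd]
  · refine Matrix.ext_of_mulVec_single fun b => funext fun a => ?_
    show ((LinearMap.toMatrix' L).submatrix (mid k) (mid k) *ᵥ Pi.single b 1) a = _
    rw [← mulVec_emb, hM]
    have e : (fun c => emb k (Pi.single b (1 : F)) (mid k c)) = Pi.single b 1 := funext fun c => emb_mid _ c
    rcases a with a | a <;> simp [L, mid] <;> simp [mid] at e <;> simp [e]

theorem frame0_mem : frame0 F k d ∈ IsoStab.Frames F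
    (fun u v : Fin (k + d) ⊕ Fin (k + d) → F => Cfsg.sympForm (k + d) F u v = 0) k := by
  refine ⟨Fintype.linearIndependent_iff.2 fun c hc i => ?_, fun i j => ?_⟩
  · simpa [frame0, outer, Finset.sum_apply, Pi.single_apply] using congrFun hc (outer i)
  · exact IsoStab.isotropic_of_inr _ _ (fun x => by simp [frame0, outer]) (fun x => by simp [frame0, outer])

theorem card_stab [Fintype F] {q : ℕ} (hF : Fintype.card F = q) :
    Nat.card (stab F k d) =
      q ^ (k * (k + 1) / 2 + 2 * k * d) * Nat.card (Matrix.symplecticGroup (Fin d) F) := by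
  classical
  have key := IsoStab.stab_master hF (Nat.le_add_right k d) (stab F k d) (frame0 F k d) frame0_mem
    {frame0 F k d} (fun s => ⟨fun hs => ⟨1, one_mem _, ?_⟩, ?_⟩) (fun g hg i => congrFun hg i)
  · rw [← IsoStab.prod_split q (hF ▸ Fintype.card_pos) k (k + d) (Nat.le_add_right k d), Nat.add_sub_cancel_left,
      Nat.card_coe_set_eq {frame0 F k d}, Set.ncard_singleton, mul_one, ← card_symplecticGroup hF d] at key
    refine Nat.eq_of_mul_eq_mul_right (IsoStab.prod_pos q (hF ▸ Fintype.one_lt_card) (Nat.le_add_right k d))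
      (key.trans ?_)
    ring
  · rw [Set.mem_singleton_iff.1 hs]
    funext i
    show (1 : Matrix.symplecticGroup (Fin (k + d)) F).1 *ᵥ _ = _
    rw [OneMemClass.coe_one, one_mulVec]
  · rintro ⟨g, hg, rfl⟩
    exact funext hg

theorem card_ker [Fintype F] {q : ℕ} (hF : Fintype.card F = q) :
    Nat.card (proj F k d).ker = q ^ (k * (k + 1) / 2 + 2 * k * d) := by
  have h := (proj F k d).ker.card_mul_index
  rw [Subgroup.index_ker, MonoidHom.range_eq_top.2 proj_surjective, Subgroup.card_top, card_stab hF] at h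
  exact Nat.eq_of_mul_eq_mul_right Nat.card_pos h

end Cfsg.Agent.SpUnipotent
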