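import Mathlib
import Cfsg.Agent.SpUnipotent.Identity
import Cfsg.Agent.SpUnipotent.Stab
import Cfsg.Agent.SpUnipotent.FixSum

/-!
Steinberg's count of the elements of p-power order in Sp(2m, q), by the alternating sum over fixed isotropic frames.
-/

set_option autoImplicit false
set_option maxHeartbeats 800000

namespace Cfsg.Agent.SpUnipotent

open Matrix Finset
open Cfsg.Agent.Classical

/-- Having p-power order. -/
def PPow (p : ℕ) {G : Type*} [Group G] (g : G) : Prop := ∃ k : ℕ, g ^ p ^ k = 1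

theorem ppow_iff (p : ℕ) [Fact p.Prime] {G : Type*} [Group G] (g : G) :
    PPow p g ↔ ∃ k : ℕ, orderOf g = p ^ k := by
  constructor
  · rintro ⟨k, hk⟩
    obtain ⟨j, -, hj⟩ := (Nat.dvd_prime_pow (Fact.out : p.Prime)).1 (orderOf_dvd_of_pow_eq_one hk)
    exact ⟨j, hj⟩
  · rintro ⟨k, hk⟩
    exact ⟨k, hk ▸ pow_orderOf_eq_one g⟩

theorem card_ppow_of_surjective {p : ℕ} {G H : Type*} [Group G] [Group H] (φ : G →* H)
    (hs : Function.Surjective φ) (hk : ∀ g : G, φ g = 1 → PPow p g) :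
    Nat.card {g : G // PPow p g} = Nat.card φ.ker * Nat.card {h : H // PPow p h} := by
  have hiff : ∀ g, PPow p g ↔ PPow p (φ g) := by
    intro g
    refine ⟨fun ⟨k, h⟩ => ⟨k, by rw [← map_pow, h, map_one]⟩, fun ⟨k, h⟩ => ?_⟩
    obtain ⟨j, hj⟩ := hk (g ^ p ^ k) (by rw [map_pow, h])
    exact ⟨k + j, by rw [pow_add, pow_mul, hj]⟩
  obtain ⟨σ, hσ⟩ := hs.hasRightInverse
  rw [← Nat.card_prod]
  exact Nat.card_congr
    { toFun := fun g => (⟨g.1 * (σ (φ g.1))⁻¹, by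
        rw [MonoidHom.mem_ker, map_mul, map_inv, hσ, mul_inv_cancel]⟩, ⟨φ g.1, (hiff _).1 g.2⟩)
      invFun := fun x => ⟨x.1.1 * σ x.2.1, (hiff _).2 (by
        rw [map_mul, MonoidHom.mem_ker.1 x.1.2, one_mul, hσ]; exact x.2.2)⟩
      left_inv := fun g => Subtype.ext (inv_mul_cancel_right _ _)
      right_inv := fun x => by
        have e : φ (x.1.1 * σ x.2.1) = x.2.1 := by rw [map_mul, MonoidHom.mem_ker.1 x.1.2, one_mul, hσ]
        refine Prod.ext (Subtype.ext ?_) (Subtype.ext e)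
        show x.1.1 * σ x.2.1 * (σ (φ (x.1.1 * σ x.2.1)))⁻¹ = x.1.1
        rw [e, mul_inv_cancel_right] }

variable {F : Type*} [Field F] [Fintype F] {p : ℕ} [Fact p.Prime] [CharP F p]

/-- The number of p-elements of Sp(2m, F). -/
noncomputable def N (F : Type*) [Field F] (p m : ℕ) : ℕ :=
  Nat.card {g : Matrix.symplecticGroup (Fin m) F // PPow p g}

theorem card_stab_ppow {q : ℕ} (hF : Fintype.card F = q) (k d : ℕ) :
    Nat.card {g : stab F k d // PPow p g} = q ^ (k * (k + 1) / 2 + 2 * k * d) * N F p d := by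
  obtain ⟨e, -, he⟩ := FiniteField.card F p
  rw [card_ppow_of_surjective (proj F k d) proj_surjective, card_ker hF, N]
  intro g hg
  refine ⟨(e : ℕ) * (k * (k + 1) / 2 + 2 * k * d), ?_⟩
  have h : (⟨g, MonoidHom.mem_ker.2 hg⟩ : (proj F k d).ker) ^ Nat.card (proj F k d).ker = 1 := pow_card_eq_one'
  rw [card_ker hF, ← hF, he, ← pow_mul] at h
  exact congrArg Subtype.val h

variable {m : ℕ}

/-- The subspace fixed by a matrix. -/
noncomputable def fixSub (u : Matrix.symplecticGroup (Fin m) F) : Submodule F (Fin m ⊕ Fin m → F) :=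
  LinearMap.eqLocus (Matrix.toLin' u.1) LinearMap.id

omit [Fintype F] in
theorem mem_fixSub {u : Matrix.symplecticGroup (Fin m) F} {x : Fin m ⊕ Fin m → F} :
    x ∈ fixSub u ↔ u.1 *ᵥ x = x := Iff.rfl

omit [Fintype F] in
theorem exists_radical {u : Matrix.symplecticGroup (Fin m) F} (hu : PPow p u) (h1 : u ≠ 1) :
    ∃ r : Fin m ⊕ Fin m → F, r ≠ 0 ∧ r ∈ fixSub u ∧ ∀ x ∈ fixSub u, Cfsg.sympForm m F r x = 0 := by
  classical
  obtain ⟨k, hk⟩ := hu
  have hk' : u.1 ^ p ^ k = 1 := by rw [← SubmonoidClass.coe_pow, hk]; rfl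
  have hne : Nonempty (Fin m ⊕ Fin m) := by
    by_contra hcon
    exact h1 (Subtype.ext (Matrix.ext fun i => absurd ⟨i⟩ hcon))
  haveI : CharP (Matrix (Fin m ⊕ Fin m) (Fin m ⊕ Fin m) F) p := inferInstance
  have hnil : IsNilpotent (u.1 - 1) :=
    ⟨p ^ k, by rw [sub_pow_char_pow_of_commute p k (Commute.one_right u.1), hk', one_pow, sub_self]⟩
  have hex : ∃ j, (u.1 - 1) ^ j = 0 := hnil
  have h2 : 2 ≤ Nat.find hex := by
    by_contra hcon
    have : (u.1 - 1) ^ 1 = 0 := pow_eq_zero_of_le (by omega) (Nat.find_spec hex)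
    rw [pow_one, sub_eq_zero] at this
    exact h1 (Subtype.ext this)
  obtain ⟨j, hj⟩ : ∃ j, Nat.find hex = j + 2 := ⟨Nat.find hex - 2, by omega⟩
  have hne' : (u.1 - 1) ^ (j + 1) ≠ 0 := Nat.find_min hex (by omega)
  obtain ⟨w, hw⟩ : ∃ w, ((u.1 - 1) ^ (j + 1)) *ᵥ w ≠ 0 := not_forall.1 fun h =>
    hne' (Matrix.ext_of_mulVec_single fun i => by rw [h, Matrix.zero_mulVec])
  refine ⟨((u.1 - 1) ^ (j + 1)) *ᵥ w, hw, ?_, fun x hx => ?_⟩
  · have h0 : (u.1 - 1) ^ (j + 2) = 0 := hj ▸ Nat.find_spec hex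
    have h := congrArg (· *ᵥ w) h0
    simp only [Matrix.zero_mulVec] at h
    rw [pow_succ' _ (j + 1), ← Matrix.mulVec_mulVec, Matrix.sub_mulVec, Matrix.one_mulVec, sub_eq_zero] at h
    exact h
  · set y := ((u.1 - 1) ^ j) *ᵥ w
    have e : ((u.1 - 1) ^ (j + 1)) *ᵥ w = u.1 *ᵥ y - y := by
      rw [pow_succ', ← Matrix.mulVec_mulVec, Matrix.sub_mulVec, Matrix.one_mulVec]
    rw [e, ← sympB_apply, map_sub, LinearMap.sub_apply, sub_eq_zero]
    conv_lhs => rw [← mem_fixSub.1 hx]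
    exact IsoStab.form_move u y x

omit [Fintype F] in
theorem frames_succ_empty :
    Nat.card (IsoStab.Frames F (fun u v : Fin m ⊕ Fin m → F => Cfsg.sympForm m F u v = 0) (m + 1)) = 0 := by
  have : IsEmpty (IsoStab.Frames F (fun u v : Fin m ⊕ Fin m → F => Cfsg.sympForm m F u v = 0) (m + 1)) := by
    refine ⟨fun s => ?_⟩
    have hle : Submodule.span F (Set.range s.1) ≤
        LinearMap.BilinForm.orthogonal (sympB m F) (Submodule.span F (Set.range s.1)) := by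
      intro v hv
      rw [LinearMap.BilinForm.mem_orthogonal_iff]
      intro n hn
      rw [← Fintype.range_linearCombination] at hv hn
      obtain ⟨a, rfl⟩ := hv
      obtain ⟨b, rfl⟩ := hn
      rw [sympB_apply]
      exact rel_combination IsoStab.symp_orth (fun x => by rw [← sympB_apply, map_zero]) s.1 s.2.2 b a
    have h := Submodule.finrank_mono hle
    rw [LinearMap.BilinForm.finrank_orthogonal sympB_nondeg, finrank_symp, finrank_span_eq_card s.2.1,
      Fintype.card_fin] at h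
    omega
  exact Nat.card_of_isEmpty

theorem frames_mul_stab {q : ℕ} (hF : Fintype.card F = q) {k d : ℕ} :
    Nat.card {x : {g : Matrix.symplecticGroup (Fin (k + d)) F // PPow p g} ×
        IsoStab.Frames F (fun u v : Fin (k + d) ⊕ Fin (k + d) → F => Cfsg.sympForm (k + d) F u v = 0) k //
        ∀ i, x.1.1.1 *ᵥ x.2.1 i = x.2.1 i} =
      Nat.card (IsoStab.Frames F (fun u v : Fin (k + d) ⊕ Fin (k + d) → F => Cfsg.sympForm (k + d) F u v = 0) k) *
        (q ^ (k * (k + 1) / 2 + 2 * k * d) * N F p d) := by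
  classical
  rw [← card_stab_ppow (p := p) hF k d, ← Nat.card_prod]
  set S := IsoStab.Frames F (fun u v : Fin (k + d) ⊕ Fin (k + d) → F => Cfsg.sympForm (k + d) F u v = 0) k
  have hA : ∀ s : S, ∃ A : Matrix.symplecticGroup (Fin (k + d)) F, ∀ i, A.1 *ᵥ frame0 F k d i = s.1 i := fun s => by
    obtain ⟨A, hA⟩ := IsoStab.symp_transitive frame0_mem.1 s.2.1 fun i j => by
      rw [sympB_apply, sympB_apply, frame0_mem.2 i j, s.2.2 i j]
    exact ⟨A, congrFun hA⟩
  choose A hA using hA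
  have hpp : ∀ (a g : Matrix.symplecticGroup (Fin (k + d)) F), PPow p g → PPow p (a * g * a⁻¹) :=
    fun a g ⟨j, hj⟩ => ⟨j, by rw [conj_pow, hj]; group⟩
  have hinv : ∀ (s : S) i, (A s)⁻¹.1 *ᵥ s.1 i = frame0 F k d i := fun s i => by
    rw [← hA s i, mulVec_mulVec, ← Submonoid.coe_mul, inv_mul_cancel, OneMemClass.coe_one, one_mulVec]
  refine Nat.card_congr
    { toFun := fun x => (x.1.2, ⟨⟨(A x.1.2)⁻¹ * x.1.1.1 * A x.1.2, fun i => ?_⟩, ?_⟩)
      invFun := fun y => ⟨(⟨A y.1 * y.2.1.1 * (A y.1)⁻¹, hpp _ _ ?_⟩, y.1), fun i => ?_⟩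
      left_inv := fun x => Subtype.ext (Prod.ext (Subtype.ext ?_) rfl)
      right_inv := fun y => Prod.ext rfl (Subtype.ext (Subtype.ext ?_)) }
  · rw [Submonoid.coe_mul, Submonoid.coe_mul, ← mulVec_mulVec, hA, ← mulVec_mulVec, x.2 i, hinv]
  · obtain ⟨j, hj⟩ : PPow p ((A x.1.2)⁻¹ * x.1.1.1 * A x.1.2) := by
      have := hpp (A x.1.2)⁻¹ _ x.1.1.2
      rwa [inv_inv] at this
    exact ⟨j, Subtype.ext (by rw [SubmonoidClass.coe_pow]; exact hj)⟩
  · obtain ⟨j, hj⟩ := y.2.2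
    exact ⟨j, by rw [← SubmonoidClass.coe_pow, hj]; rfl⟩
  · show (A y.1 * y.2.1.1 * (A y.1)⁻¹).1 *ᵥ y.1.1 i = y.1.1 i
    rw [Submonoid.coe_mul, Submonoid.coe_mul, ← mulVec_mulVec, hinv, ← mulVec_mulVec, y.2.1.2 i, hA]
  · show A x.1.2 * ((A x.1.2)⁻¹ * x.1.1.1 * A x.1.2) * (A x.1.2)⁻¹ = x.1.1.1
    group
  · show (A y.1)⁻¹ * (A y.1 * y.2.1.1 * (A y.1)⁻¹) * A y.1 = y.2.1.1
    group

/-- The weight of the k-th layer. -/
def wgt (q : ℚ) (m k : ℕ) : ℚ := gb q m k * ((-1) ^ k * ∏ i ∈ range k, (q ^ i + q ^ m))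

theorem frames_weight {q : ℕ} (hF : Fintype.card F = q) {k : ℕ} (hk : k ≤ m) :
    (-1 : ℚ) ^ k * (Nat.card (IsoStab.Frames F (fun u v : Fin m ⊕ Fin m → F => Cfsg.sympForm m F u v = 0) k) : ℚ) /
      ∏ i ∈ range k, ((q : ℚ) ^ (i + 1) - 1) = wgt (q : ℚ) m k := by
  have hq : 1 < q := hF ▸ Fintype.one_lt_card
  have hE : ∏ i ∈ range k, ((q : ℚ) ^ (i + 1) - 1) ≠ 0 := Finset.prod_ne_zero_iff.2 fun i _ =>
    sub_ne_zero.2 (one_lt_pow₀ (by exact_mod_cast hq : (1 : ℚ) < q) (Nat.succ_ne_zero i)).ne'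
  have key : ∏ i ∈ range k, ((q : ℚ) ^ (2 * m - i) - (q : ℚ) ^ i) =
      (∏ i ∈ range k, ((q : ℚ) ^ (m - i) - 1)) * ∏ i ∈ range k, ((q : ℚ) ^ i + (q : ℚ) ^ m) := by
    rw [← prod_mul_distrib]
    refine prod_congr rfl fun i hi => ?_
    obtain ⟨d, rfl⟩ : ∃ d, m = i + d := ⟨m - i, by have := mem_range.1 hi; omega⟩
    rw [show 2 * (i + d) - i = i + d + d by omega, show i + d - i = d by omega]
    ring
  rw [IsoStab.card_symp_frames hF hk, Nat.cast_prod, prod_congr rfl (fun i hi => ?_), key, ← gb_mul (q : ℚ) m k hk,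
    wgt]
  · field_simp
  · rw [Nat.cast_sub (Nat.pow_le_pow_right (by omega) (by have := mem_range.1 hi; omega)), Nat.cast_pow, Nat.cast_pow]

theorem recursion {q : ℕ} (hF : Fintype.card F = q) :
    ∑ k ∈ range (m + 1), wgt (q : ℚ) m k *
        ((q : ℚ) ^ (k * (k + 1) / 2 + 2 * k * (m - k)) * (N F p (m - k) : ℚ)) = (-((q : ℚ) ^ m)) ^ m := by
  classical
  set R := fun u v : Fin m ⊕ Fin m → F => Cfsg.sympForm m F u v = 0 with hR
  haveI : Fintype {g : Matrix.symplecticGroup (Fin m) F // PPow p g} := Fintype.ofFinite _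
  set E : ℕ → ℚ := fun k => ∏ i ∈ range k, ((q : ℚ) ^ (i + 1) - 1) with hE
  set T : {g : Matrix.symplecticGroup (Fin m) F // PPow p g} → ℚ := fun u =>
    ∑ k ∈ range (m + 1), (-1 : ℚ) ^ k * (Nat.card (Fr (fixSub u.1) R k) : ℚ) / E k with hT
  have hq : Nat.card F = q := by rw [Nat.card_eq_fintype_card, hF]
  have h0 : ∀ u, u.1 ≠ 1 → T u = 0 := fun u hu => by
    obtain ⟨r, hr0, hrX, hrR⟩ := exists_radical u.2 hu
    have h := alt_sum_eq_zero (fixSub u.1) (R := R) IsoStab.symp_orth (fun x => by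
      show Cfsg.sympForm m F x 0 = 0
      rw [← sympB_apply, map_zero]) hr0 hrX hrR m frames_succ_empty
    rw [hq] at h
    exact h
  let one' : {g : Matrix.symplecticGroup (Fin m) F // PPow p g} := ⟨1, 0, one_pow _⟩
  have h1 : T one' = (-((q : ℚ) ^ m)) ^ m := by
    rw [← newton (q : ℚ) ((q : ℚ) ^ m) m]
    refine sum_congr rfl fun k hk => ?_
    have e : Nat.card (Fr (fixSub one'.1) R k) = Nat.card (IsoStab.Frames F R k) :=
      Nat.card_congr (Equiv.subtypeEquivRight fun s => ⟨fun h => h.1, fun h => ⟨h, fun i => by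
        rw [mem_fixSub]
        show (1 : Matrix.symplecticGroup (Fin m) F).1 *ᵥ s i = s i
        rw [OneMemClass.coe_one, one_mulVec]⟩⟩)
    rw [e]
    exact frames_weight hF (by have := mem_range.1 hk; omega)
  have hsum : ∑ u, T u = T one' :=
    Finset.sum_eq_single one' (fun u _ hu => h0 u fun h => hu (Subtype.ext h)) (fun h => absurd (mem_univ _) h)
  rw [← h1, ← hsum]
  simp only [hT]
  rw [Finset.sum_comm]
  refine sum_congr rfl fun k hk => ?_
  obtain ⟨d, hd⟩ : ∃ d, m = k + d := ⟨m - k, by have := mem_range.1 hk; omega⟩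
  subst hd
  rw [← Finset.sum_div, ← Finset.mul_sum, Nat.add_sub_cancel_left, ← frames_weight hF (Nat.le_add_right k d),
    ← Nat.cast_sum]
  have e : ∑ u : {g : Matrix.symplecticGroup (Fin (k + d)) F // PPow p g}, Nat.card (Fr (fixSub u.1) R k) =
      Nat.card (IsoStab.Frames F R k) * (q ^ (k * (k + 1) / 2 + 2 * k * d) * N F p d) := by
    rw [← frames_mul_stab (p := p) hF, ← Nat.card_sigma]
    exact Nat.card_congr
      { toFun := fun x => ⟨(x.1, ⟨x.2.1, x.2.2.1⟩), x.2.2.2⟩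
        invFun := fun x => ⟨x.1.1, ⟨x.1.2.1, x.1.2.2, x.2⟩⟩
        left_inv := fun x => rfl
        right_inv := fun x => rfl }
  rw [e]
  push_cast
  simp only [E, R]
  ring

theorem closed_form (q : ℚ) (m : ℕ) :
    ∑ k ∈ range (m + 1), wgt q m k * (q ^ (k * (k + 1) / 2 + 2 * k * (m - k)) * q ^ (2 * (m - k) ^ 2)) =
      (-(q ^ m)) ^ m := by
  have hsq : ∀ k, (∑ i ∈ range k, i) + k * (k + 1) / 2 = k * k := by
    intro k
    induction k with
    | zero => rfl
    | succ k ih =>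
      rw [sum_range_succ, show (k + 1) * (k + 1 + 1) = k * (k + 1) + (k + 1) * 2 by ring,
        Nat.add_mul_div_right _ _ (by norm_num)]
      nlinarith [ih]
  have hterm : ∀ k ∈ range (m + 1),
      wgt q m k * (q ^ (k * (k + 1) / 2 + 2 * k * (m - k)) * q ^ (2 * (m - k) ^ 2)) =
        (-(q ^ m)) ^ m * (gb q m k * ((-1) ^ (m - k) * q ^ ((m - k) ^ 2 + 0 * (m - k)) *
          ∏ i ∈ range k, (1 + q ^ (m + 0 - i)))) := by
    intro k hk
    have hkm : k ≤ m := by have := mem_range.1 hk; omega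
    have hp : ∏ i ∈ range k, (q ^ i + q ^ m) = q ^ (∑ i ∈ range k, i) * ∏ i ∈ range k, (1 + q ^ (m + 0 - i)) := by
      rw [← prod_pow_eq_pow_sum, ← prod_mul_distrib]
      refine prod_congr rfl fun i hi => ?_
      rw [mul_add, mul_one, ← pow_add, show i + (m + 0 - i) = m by have := mem_range.1 hi; omega]
    obtain ⟨d, rfl⟩ : ∃ d, m = k + d := ⟨m - k, by omega⟩
    rw [wgt, hp, Nat.add_sub_cancel_left, neg_pow]
    have hs : ((-1 : ℚ) ^ (k + d)) * (-1) ^ d = (-1) ^ k := by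
      rw [← pow_add, add_assoc, pow_add, ← two_mul, pow_mul]; simp
    have he : q ^ (∑ i ∈ range k, i) * (q ^ (k * (k + 1) / 2 + 2 * k * d) * q ^ (2 * d ^ 2)) =
        (q ^ (k + d)) ^ (k + d) * q ^ (d ^ 2 + 0 * d) := by
      rw [← pow_add, ← pow_add, ← pow_mul, ← pow_add]
      congr 1
      have := hsq k
      nlinarith [this]
    set P := ∏ i ∈ range k, (1 + q ^ (k + d + 0 - i))
    linear_combination (gb q (k + d) k * (-1) ^ k * P) * he -
      (gb q (k + d) k * (q ^ (k + d)) ^ (k + d) * q ^ (d ^ 2 + 0 * d) * P) * hs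
  rw [sum_congr rfl hterm, ← mul_sum, inversion q m 0, mul_one]

theorem card_ppow_symplectic {q : ℕ} (hF : Fintype.card F = q) (m : ℕ) : N F p m = q ^ (2 * m ^ 2) := by
  induction m using Nat.strong_induction_on with
  | _ m ih =>
    have h1 := recursion (p := p) (m := m) hF
    rw [← closed_form (q : ℚ) m, sum_range_succ', sum_range_succ'] at h1
    have e : ∀ j ∈ range m, wgt (q : ℚ) m (j + 1) *
        ((q : ℚ) ^ ((j + 1) * (j + 1 + 1) / 2 + 2 * (j + 1) * (m - (j + 1))) * (N F p (m - (j + 1)) : ℚ)) =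
      wgt (q : ℚ) m (j + 1) *
        ((q : ℚ) ^ ((j + 1) * (j + 1 + 1) / 2 + 2 * (j + 1) * (m - (j + 1))) * (q : ℚ) ^ (2 * (m - (j + 1)) ^ 2)) := by
      intro j hj
      rw [ih (m - (j + 1)) (by have := mem_range.1 hj; omega), Nat.cast_pow]
    rw [sum_congr rfl e] at h1
    have h2 := add_left_cancel h1
    simp [wgt, gb_zero_right] at h2
    exact_mod_cast h2

end Cfsg.Agent.SpUnipotent
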